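import Groth.Agent.Lib.Ample.Basis
import Groth.Agent.Lib.Ample.Extend
import Groth.Agent.Lib.ProjMor.Sec
import Groth.Agent.H22.StrictTransform.Near
import Mathlib.AlgebraicGeometry.Properties

/-!
# Sections of an ample twist with prescribed ratios
-/

set_option autoImplicit false
set_option maxHeartbeats 1000000

noncomputable section

universe u

open CategoryTheory CategoryTheory.Limits AlgebraicGeometry TopologicalSpace Opposite

namespace Groth.Agent.H22.Birational12426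

open Groth.Agent.Lib TensorMod TensorMod.Gen TensorMod.Dual Ample.GenLocus ProjMor.Sec

theorem exists_clearing {X X' : Scheme.{u}} [IsIntegral X] [IsIntegral X'] [CompactSpace X]
    [QuasiSeparatedSpace X] {M : X.Modules} (hM : CohB1.IsAmple M) (f : X' ⟶ X)
    (hbir : ∃ U : X.Opens, (U : Set X).Nonempty ∧ IsIso (f ∣_ U))
    {L : X'.Modules} (hL : PicF.IsInvertible L) {ι : Type} [Finite ι] (x : ι → Γ(L, ⊤)) :
    ∃ (A : X.Modules) (_ : PicF.IsInvertible A) (O : X.Opens) (_ : (O : Set X).Nonempty)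
      (g₀ : Γ(A, O)) (_ : IsGen A O g₀) (e' : Γ(L, f ⁻¹ᵁ O)) (_ : IsGen L (f ⁻¹ᵁ O) e')
      (a : ι → Γ(A, ⊤)) (c : ι → Γ(X, O)),
      IsIso (f ∣_ O) ∧ (∀ j, gl (a j) O = c j • g₀) ∧
        ∀ j, gl (x j) (f ⁻¹ᵁ O) = f.app O (c j) • e' := by
  obtain ⟨U, ⟨u₀, hu₀⟩, hiso⟩ := hbir
  obtain ⟨⟨y₀, hy₀⟩, -⟩ := (f ∣_ U).surjective ⟨u₀, hu₀⟩
  obtain ⟨O', e, hηO', he⟩ := isInvertible_iff.1 hL (genericPoint X')
  have hηU : genericPoint X' ∈ f ⁻¹ᵁ U :=
    ((genericPoint_spec X').specializes trivial).mem_open (f ⁻¹ᵁ U).isOpen hy₀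
  let O₁ : X.Opens := U.ι ''ᵁ ((CategoryTheory.inv (f ∣_ U)) ⁻¹ᵁ ((f ⁻¹ᵁ U).ι ⁻¹ᵁ O'))
  have hO₁U : O₁ ≤ U := U.ι_image_le _
  have hO₁ : f ⁻¹ᵁ O₁ ≤ O' := by
    rintro z ⟨w, hw, hwz⟩
    have hzU : z ∈ f ⁻¹ᵁ U := hO₁U ⟨w, hw, hwz⟩
    have h3 : U.ι ((f ∣_ U) ⟨z, hzU⟩) = f z :=
      congrArg (fun φ : (f ⁻¹ᵁ U).toScheme ⟶ X => φ ⟨z, hzU⟩) (morphismRestrict_ι f U)
    have hwe : w = (f ∣_ U) ⟨z, hzU⟩ := U.ι.isOpenEmbedding.injective (hwz.trans h3.symm)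
    rw [hwe] at hw
    have h2 : (CategoryTheory.inv (f ∣_ U)) ((f ∣_ U) ⟨z, hzU⟩) = ⟨z, hzU⟩ := by
      rw [← Scheme.Hom.comp_apply, IsIso.hom_inv_id]
      rfl
    have hw' : (f ⁻¹ᵁ U).ι ((CategoryTheory.inv (f ∣_ U)) ((f ∣_ U) ⟨z, hzU⟩)) ∈ O' := hw
    rw [h2] at hw'
    exact hw'
  have hη₁ : f (genericPoint X') ∈ O₁ := by
    refine ⟨(f ∣_ U) ⟨_, hηU⟩, ?_, ?_⟩
    · show (f ⁻¹ᵁ U).ι ((CategoryTheory.inv (f ∣_ U)) ((f ∣_ U) ⟨_, hηU⟩)) ∈ O'
      rw [← Scheme.Hom.comp_apply (f ∣_ U), IsIso.hom_inv_id]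
      exact hηO'
    · exact congrArg (fun φ : (f ⁻¹ᵁ U).toScheme ⟶ X => φ ⟨_, hηU⟩) (morphismRestrict_ι f U)
  obtain ⟨m, -, s, hs, hsle, -⟩ := Ample.Basis.exists_locus_subset hM hη₁
  let A₁ := CohB1.tensorPow M m
  have hA₁ : PicF.IsInvertible A₁ := Invertible.isInvertible_tensorPow hM.1 m
  let O := CohB1.genLocus A₁ s
  have hOO' : f ⁻¹ᵁ O ≤ O' := fun z hz => hO₁ (hsle hz)
  haveI : IsIso (f ∣_ O) := StrictTransform.isIso_restrict_of_le (hsle.trans hO₁U)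
  haveI : IsIso (f.app O) := StrictTransform.isIso_app_of_le (U := O) O le_rfl
  let e' : Γ(L, f ⁻¹ᵁ O) := rs L hOO' e
  have he' : IsGen L (f ⁻¹ᵁ O) e' := he.res hOO'
  choose c' hc' using fun j => exists_coord he' (gl (x j) (f ⁻¹ᵁ O))
  choose c hc using fun j => (ConcreteCategory.bijective_of_isIso (f.app O)).2 (c' j)
  haveI : (Coh.structureModule X).IsQuasicoherent :=
    QCohInv.isQCoh_of_isInvertible (PicLoc.isInvertible_structureModule X)
  obtain ⟨n, hn⟩ := (Filter.eventually_all.2 fun j =>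
    Ample.Extend.eventually_extension (F := Coh.structureModule X) hA₁ s (c j • one X O)).exists
  choose a ha using hn
  let g₀ : Γ(CohB1.tensorMod (Coh.structureModule X) (CohB1.tensorPow A₁ n), O) :=
    SecTwist.tmul (Coh.structureModule X) (CohB1.tensorPow A₁ n) O (one X O)
      (Ample.Extend.powSec (sv s O) n)
  refine ⟨CohB1.tensorMod (Coh.structureModule X) (CohB1.tensorPow A₁ n),
    Invertible.isInvertible_tensorMod (PicLoc.isInvertible_structureModule X)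
      (Invertible.isInvertible_tensorPow hA₁ n), O, ⟨_, hs⟩, g₀,
    isGen_tmul (isGen_one O) (Ample.Extend.isGen_powSec (Ample.Basis.isGen_genLocus s) n),
    e', he', a, c, inferInstance, fun j => ?_, fun j => by rw [hc, hc']⟩
  refine (ha j).trans ?_
  have h1 : (SecTwist.twist s n (Coh.structureModule X) O (c j • one X O) :
      Γ(CohB1.tensorMod (Coh.structureModule X) (CohB1.tensorPow A₁ n), O)) =
        SecTwist.tmul (Coh.structureModule X) (CohB1.tensorPow A₁ n) O (c j • one X O)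
          (Ample.Extend.powSec (sv s O) n) :=
    congrArg (SecTwist.tmul (Coh.structureModule X) (CohB1.tensorPow A₁ n) O (c j • one X O))
      (Ample.Extend.pow_eq_powSec s O n)
  rw [Ample.Extend.tw, h1]
  have h2 := tmul_smul (c j) 1 (one X O) (Ample.Extend.powSec (sv s O) n)
  rw [one_smul, mul_one] at h2
  exact h2

end Groth.Agent.H22.Birational12426
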