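import Groth.Agent.H22.Birational12426.Data
import Groth.Agent.H22.AffineCompl11382.Main
import Groth.Agent.Lib.ProjSpace.Basic
import Groth.Agent.Lib.ProjSpace.Charts
import Groth.Agent.H26.ZeroFrame
import Groth.Agent.Lib.BlowUpExists.Cover

/-!
# A projective birational morphism is a blow-up
-/

set_option autoImplicit false
set_option maxHeartbeats 1000000

noncomputable section

universe u

open CategoryTheory CategoryTheory.Limits AlgebraicGeometry TopologicalSpace Opposite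

namespace Groth.Agent.H22.Birational12426

open Groth.Agent.Lib TensorMod TensorMod.Gen TensorMod.Dual TensorMod.Pullback Ample.GenLocus
  ProjMor ProjMor.Sec ProjMor.Frame BlowUpExists StrictTransform

variable {X X' : Scheme.{u}} [IsIntegral X] [IsIntegral X'] {f : X' ⟶ X}
  {ι : Type} [Finite ι]

/-- The clearing data. -/
structure Cl (f : X' ⟶ X) (ι : Type) where
  L : X'.Modules
  A : X.Modules
  hA : PicF.IsInvertible A
  x : ι → Γ(L, ⊤)
  O : X.Opens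
  hO : (O : Set X).Nonempty
  g₀ : Γ(A, O)
  hg₀ : IsGen A O g₀
  e' : Γ(L, f ⁻¹ᵁ O)
  he' : IsGen L (f ⁻¹ᵁ O) e'
  a : ι → Γ(A, ⊤)
  c : ι → Γ(X, O)
  iso : IsIso (f ∣_ O)
  ha : ∀ j, gl (a j) O = c j • g₀
  hx : ∀ j, gl (x j) (f ⁻¹ᵁ O) = f.app O (c j) • e'

variable (d : Cl f ι)

omit [IsIntegral X] [Finite ι] in
theorem exists_mem_preimage_O : ∃ z : X', z ∈ f ⁻¹ᵁ d.O := by
  haveI := d.iso
  obtain ⟨x₀, hx₀⟩ := d.hO
  obtain ⟨⟨y, hy⟩, -⟩ := (f ∣_ d.O).surjective ⟨x₀, hx₀⟩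
  exact ⟨y, hy⟩

omit [IsIntegral X] [Finite ι] in
theorem nonempty_inter {T : X'.Opens} {z : X'} (hz : z ∈ T) :
    ∃ w, w ∈ T ⊓ f ⁻¹ᵁ d.O := by
  obtain ⟨y, hy⟩ := exists_mem_preimage_O d
  exact nonempty_preirreducible_inter T.isOpen (f ⁻¹ᵁ d.O).isOpen ⟨z, hz⟩ ⟨y, hy⟩

omit [IsIntegral X] [IsIntegral X'] [Finite ι] in
theorem appLE_res' (f : X' ⟶ X) {W W' : X.Opens} {T T' : X'.Opens} (hW : W' ≤ W) (hT : T' ≤ T)
    (e : T ≤ f ⁻¹ᵁ W) (e' : T' ≤ f ⁻¹ᵁ W') (b : Γ(X, W)) :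
    X'.presheaf.map (homOfLE hT).op (f.appLE W T e b) =
      f.appLE W' T' e' (X.presheaf.map (homOfLE hW).op b) := by
  rw [← ConcreteCategory.comp_apply, ← ConcreteCategory.comp_apply, Scheme.Hom.appLE_map,
    Scheme.Hom.map_appLE]

omit [IsIntegral X] [Finite ι] in
/-- The fundamental relation: the pull-backs of the coordinates have the ratios of the sections. -/
theorem rel (F : H95.ZeroSch.Frame d.A) (b : ι → Γ(X, F.V.1))
    (hb : ∀ j, gl (d.a j) F.V.1 = b j • F.e) (j k : ι) {T : X'.Opens} {z : X'} (hz : z ∈ T)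
    (hT : T ≤ f ⁻¹ᵁ F.V.1) (q : Γ(X', T)) (hq : gl (d.x k) T = q • gl (d.x j) T) :
    f.appLE F.V.1 T hT (b k) = q * f.appLE F.V.1 T hT (b j) := by
  obtain ⟨w, hw⟩ := nonempty_inter d hz
  let W' := F.V.1 ⊓ d.O
  let T' := T ⊓ f ⁻¹ᵁ d.O
  have hT' : T' ≤ f ⁻¹ᵁ W' := fun y hy => ⟨hT hy.1, hy.2⟩
  haveI : Nonempty T' := ⟨⟨w, hw⟩⟩
  obtain ⟨v, hv⟩ := exists_coord (d.hg₀.res (inf_le_right : W' ≤ d.O)) (rs d.A inf_le_left F.e)
  have hvu : IsUnit v := isUnit_of_isGen_smul (d.hg₀.res (inf_le_right : W' ≤ d.O))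
    (hv ▸ F.he.res inf_le_left)
  have hbv : ∀ i, X.presheaf.map (homOfLE (inf_le_left : W' ≤ F.V.1)).op (b i) * v =
      X.presheaf.map (homOfLE (inf_le_right : W' ≤ d.O)).op (d.c i) := by
    intro i
    refine ((d.hg₀.res (inf_le_right : W' ≤ d.O)) W' le_rfl).1 ?_
    simp only [rs_self]
    rw [mul_smul, ← hv]
    refine (rs_smul d.A (inf_le_left : W' ≤ F.V.1) (b i) F.e).symm.trans ?_
    rw [← hb, rs_gl, ← rs_gl (inf_le_right : W' ≤ d.O), d.ha]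
    exact rs_smul d.A _ (d.c i) d.g₀
  have hC : ∀ i, gl (d.x i) T' = f.appLE d.O T' inf_le_right (d.c i) • rs d.L inf_le_right d.e' := by
    intro i
    rw [← rs_gl (inf_le_right : T' ≤ f ⁻¹ᵁ d.O), d.hx, rs_smul]
    rfl
  have hcq : f.appLE d.O T' inf_le_right (d.c k) =
      X'.presheaf.map (homOfLE (inf_le_left : T' ≤ T)).op q * f.appLE d.O T' inf_le_right (d.c j) := by
    refine ((d.he'.res (inf_le_right : T' ≤ f ⁻¹ᵁ d.O)) T' le_rfl).1 ?_
    simp only [rs_self]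
    rw [mul_smul, ← hC, ← hC, ← rs_gl (inf_le_left : T' ≤ T), hq, rs_smul]
    exact congrArg (_ • ·) (rs_gl _ _)
  refine map_injective_of_isIntegral X' (homOfLE (inf_le_left : T' ≤ T)) ?_
  rw [map_mul, appLE_res' f inf_le_left _ hT hT', appLE_res' f inf_le_left _ hT hT']
  refine (hvu.map (f.appLE W' T' hT').hom).mul_right_cancel ?_
  rw [mul_assoc, ← map_mul, ← map_mul, hbv, hbv]
  have e1 : ∀ i, f.appLE W' T' hT' (X.presheaf.map (homOfLE (inf_le_right : W' ≤ d.O)).op (d.c i)) =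
      f.appLE d.O T' inf_le_right (d.c i) := fun i => by
    rw [← ConcreteCategory.comp_apply, Scheme.Hom.map_appLE]
  rw [e1, e1]
  exact hcq

omit [IsIntegral X] [Finite ι] in
/-- The coordinate of a section is non-zero where the section generates. -/
theorem ne_zero (F : H95.ZeroSch.Frame d.A) (b : ι → Γ(X, F.V.1))
    (hb : ∀ j, gl (d.a j) F.V.1 = b j • F.e) (j : ι) {T : X'.Opens} {z : X'} (hz : z ∈ T)
    (hTj : T ≤ locus (d.x j)) (hT : T ≤ f ⁻¹ᵁ F.V.1) : f.appLE F.V.1 T hT (b j) ≠ 0 := by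
  intro h0
  obtain ⟨w, hw⟩ := nonempty_inter d hz
  let W' := F.V.1 ⊓ d.O
  let T' := T ⊓ f ⁻¹ᵁ d.O
  have hT' : T' ≤ f ⁻¹ᵁ W' := fun y hy => ⟨hT hy.1, hy.2⟩
  haveI : Nonempty T' := ⟨⟨w, hw⟩⟩
  obtain ⟨v, hv⟩ := exists_coord (d.hg₀.res (inf_le_right : W' ≤ d.O)) (rs d.A inf_le_left F.e)
  have hbv : X.presheaf.map (homOfLE (inf_le_left : W' ≤ F.V.1)).op (b j) * v =
      X.presheaf.map (homOfLE (inf_le_right : W' ≤ d.O)).op (d.c j) := by
    refine ((d.hg₀.res (inf_le_right : W' ≤ d.O)) W' le_rfl).1 ?_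
    simp only [rs_self]
    rw [mul_smul, ← hv]
    refine (rs_smul d.A (inf_le_left : W' ≤ F.V.1) (b j) F.e).symm.trans ?_
    rw [← hb, rs_gl, ← rs_gl (inf_le_right : W' ≤ d.O), d.ha]
    exact rs_smul d.A _ (d.c j) d.g₀
  have hC : f.appLE d.O T' inf_le_right (d.c j) = 0 := by
    have := congrArg (f.appLE W' T' hT') hbv
    rw [map_mul, ← appLE_res' f inf_le_left (inf_le_left : T' ≤ T) hT hT', h0, map_zero, zero_mul,
      ← ConcreteCategory.comp_apply, Scheme.Hom.map_appLE] at this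
    exact this.symm
  have hg : IsGen d.L T' (gl (d.x j) T') := by
    have := (isGen_locus (d.x j)).res ((inf_le_left : T' ≤ T).trans hTj)
    rwa [rs_gl] at this
  have h1 : gl (d.x j) T' = 0 := by
    rw [← rs_gl (inf_le_right : T' ≤ f ⁻¹ᵁ d.O), d.hx, rs_smul]
    exact (congrArg (· • rs d.L inf_le_right d.e') (show
      X'.presheaf.map (homOfLE (inf_le_right : T' ≤ f ⁻¹ᵁ d.O)).op (f.app d.O (d.c j)) = 0 from hC)).trans
      (zero_smul _ _)
  refine zero_ne_one' Γ(X', T') ((hg T' le_rfl).1 ?_)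
  simp only [rs_self, h1, smul_zero]

/-- The ideal spanned by the coordinates. -/
def ideal : X.IdealSheafData :=
  ⨆ j, PicF2.zeroScheme d.A (Modules.Free.unitHom d.A (d.a j))

omit [IsIntegral X] [IsIntegral X'] [Finite ι] in
theorem ideal_frame (F : H95.ZeroSch.Frame d.A) :
    ∃ b : ι → Γ(X, F.V.1), (∀ j, gl (d.a j) F.V.1 = b j • F.e) ∧
      (ideal d).ideal F.V = Ideal.span (Set.range b) := by
  refine ⟨fun j => H95.ZeroSch.coord F (gl (d.a j) F.V.1),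
    fun j => (H95.ZeroSch.coord_smul F _).symm, ?_⟩
  rw [ideal, Scheme.IdealSheafData.ideal_iSup, iSup_apply, Ideal.span, Submodule.span_range_eq_iSup]
  refine iSup_congr fun j => ?_
  rw [H26.ZeroFrame.zeroScheme_ideal_eq d.hA]
  congr
  exact ProjMor.Sec.sv_unitHom (d.a j) F.V.1

theorem genAt_of_locus (F : H95.ZeroSch.Frame d.A) (b : ι → Γ(X, F.V.1))
    (hb : ∀ j, gl (d.a j) F.V.1 = b j • F.e) (hI : (ideal d).ideal F.V = Ideal.span (Set.range b))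
    (j : ι) {T : X'.affineOpens} {z : X'} (hz : z ∈ T.1) (hTj : T.1 ≤ locus (d.x j))
    (hT : T.1 ≤ f ⁻¹ᵁ F.V.1) :
    ((ideal d).comap f).ideal T = Ideal.span {f.appLE F.V.1 T.1 hT (b j)} := by
  rw [Lib.Ideal.Comap.ideal_comap f _ F.V T hT, hI, Ideal.map_span]
  refine le_antisymm (Ideal.span_le.2 ?_) (Ideal.span_mono ?_)
  · rintro _ ⟨_, ⟨k, rfl⟩, rfl⟩
    obtain ⟨q, hq⟩ := exists_coord ((isGen_locus (d.x j)).res hTj) (gl (d.x k) T.1)
    rw [rs_gl] at hq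
    exact Ideal.mem_span_singleton'.2 ⟨q, (rel d F b hb j k hz hT q hq).symm⟩
  · exact Set.singleton_subset_iff.2 ⟨_, ⟨j, rfl⟩, rfl⟩

theorem isEffCartier (hcov : ∀ z, ∃ j, z ∈ locus (d.x j)) :
    BlowUp.IsEffCartierIdeal ((ideal d).comap f) := by
  intro z
  obtain ⟨j, hj⟩ := hcov z
  obtain ⟨F, hzF, -⟩ := H95.ZeroSch.exists_frame d.hA (show f z ∈ (⊤ : X.Opens) from trivial)
  obtain ⟨b, hb, hI⟩ := ideal_frame d F
  obtain ⟨T, hT, hzT, hle⟩ := exists_isAffineOpen_mem_and_subset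
    (show z ∈ locus (d.x j) ⊓ f ⁻¹ᵁ F.V.1 from ⟨hj, hzF⟩)
  haveI : Nonempty T := ⟨⟨z, hzT⟩⟩
  exact ⟨⟨T, hT⟩, hzT, _, mem_nonZeroDivisors_of_ne_zero
    (ne_zero d F b hb j hzT (fun y hy => (hle hy).1) fun y hy => (hle hy).2),
    genAt_of_locus d F b hb hI j (T := ⟨T, hT⟩) hzT (fun y hy => (hle hy).1) fun y hy => (hle hy).2⟩

theorem exists_notMem_support (hcov : ∀ z, ∃ j, z ∈ locus (d.x j)) :
    ∃ x : X, x ∉ (ideal d).support := by
  obtain ⟨z, -⟩ := exists_mem_preimage_O d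
  by_contra! h
  have hz : ∀ y : X', y ∈ ((ideal d).comap f).support := fun y => by
    rw [Scheme.IdealSheafData.support_comap]
    exact h (f y)
  obtain ⟨T, hzT, t, ht, hJ⟩ := isEffCartier d hcov z
  haveI : Nonempty T.1 := ⟨⟨z, hzT⟩⟩
  refine nonZeroDivisors.ne_zero ht ((AlgebraicGeometry.basicOpen_eq_bot_iff t).1 ?_)
  refine le_bot_iff.1 fun y hy => ?_
  have hy' := X'.basicOpen_le t hy
  have := hz y
  rw [Scheme.IdealSheafData.mem_support_iff_of_mem hy', Scheme.mem_zeroLocus_iff] at this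
  exact this t (hJ ▸ Ideal.mem_span_singleton_self t) hy

end Groth.Agent.H22.Birational12426
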