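import Groth.Agent.H22.Birational12426.Proj
import Groth.Agent.Lib.ProjSpace.BaseChange
import Groth.Agent.H26.BirationalZMT
import Groth.Agent.H68.FlatDedekind

/-!
# Birational morphisms of projective varieties are blow-ups
-/

set_option autoImplicit false
set_option maxHeartbeats 1000000

noncomputable section

universe u

open CategoryTheory CategoryTheory.Limits AlgebraicGeometry TopologicalSpace

namespace Groth.Agent.H22.Birational12426

open Groth.Agent.Lib

variable {X Y : Scheme.{u}} [IsIntegral X] [IsIntegral Y]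

theorem bijective_specializes {Z : Scheme.{u}} {a b : Z} (e : a = b) (h : a ⤳ b) :
    Function.Bijective (Z.presheaf.stalkSpecializes h) := by
  subst e
  rw [TopCat.Presheaf.stalkSpecializes_refl]
  exact Function.bijective_id

/-- A birational morphism of finite type is an isomorphism over a non-empty open. -/
theorem exists_isIso_open (f : X ⟶ Y) [IsSeparated f] [LocallyOfFiniteType f]
    (hgen : f (genericPoint X) = genericPoint Y)
    (hbir : Function.Bijective (f.residueFieldMap (genericPoint X)).hom) :
    ∃ U : Y.Opens, (U : Set Y).Nonempty ∧ IsIso (f ∣_ U) := by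
  set η := genericPoint X
  have hYf : IsField (Y.presheaf.stalk (f η)) := by
    rw [hgen]
    exact Field.toIsField Y.functionField
  have hXf : IsField (X.presheaf.stalk η) := Field.toIsField X.functionField
  have hres : ∀ {Z : Scheme.{u}} (z : Z), IsField (Z.presheaf.stalk z) →
      Function.Bijective (Z.residue z).hom := by
    intro Z z hz
    letI := hz.toField
    exact ⟨RingHom.injective _, IsLocalRing.residue_surjective⟩
  have hst : Function.Bijective (f.stalkMap η) := by
    have h : (f.stalkMap η ≫ X.residue η) = Y.residue (f η) ≫ f.residueFieldMap η :=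
      (Scheme.residue_residueFieldMap f η).symm
    have hb : Function.Bijective ((X.residue η).hom ∘ (f.stalkMap η).hom) := by
      have := hbir.comp (hres (f η) hYf)
      rw [← RingHom.coe_comp, ← CommRingCat.hom_comp, h]
      exact this
    exact (Function.Bijective.of_comp_iff' (hres η hXf) _).1 hb
  haveI hiso : IsIso (f.stalkMap η) := (ConcreteCategory.isIso_iff_bijective _).2 hst
  have hfib : ∀ z : X, f z = f η → z = η := by
    intro z hz
    have hs : η ⤳ z := (genericPoint_spec X).specializes trivial
    have hψi : Function.Injective (X.presheaf.stalkSpecializes hs) := by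
      have := IsFractionRing.injective (X.presheaf.stalk z) X.functionField
      exact this
    have hcomp := f.stalkSpecializes_stalkMap η z hs
    have hb : Function.Bijective (fun a => X.presheaf.stalkSpecializes hs (f.stalkMap z a)) := by
      have := hst.comp (bijective_specializes (Z := Y) hz.symm (hs.map f.continuous))
      convert! this using 1
      funext a
      exact (congrArg (fun φ : Y.presheaf.stalk (f z) ⟶ X.presheaf.stalk η => φ a) hcomp).symm
    have hψs : Function.Surjective (X.presheaf.stalkSpecializes hs) :=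
      Function.Surjective.of_comp hb.2
    refine Groth.Agent.H68.FlatDedekind.eq_genericPoint_of_isField ?_
    exact (RingEquiv.ofBijective (X.presheaf.stalkSpecializes hs).hom ⟨hψi, hψs⟩).toMulEquiv.isField hXf
  haveI : Subsingleton (f.fiber (f η)) := by
    refine ⟨fun a b => (f.fiberι (f η)).isEmbedding.injective ?_⟩
    have ha : f (f.fiberι (f η) a) = f η := (Set.ext_iff.1 (f.range_fiberι (f η)) _).1 ⟨a, rfl⟩
    have hb : f (f.fiberι (f η) b) = f η := (Set.ext_iff.1 (f.range_fiberι (f η)) _).1 ⟨b, rfl⟩
    rw [hfib _ ha, hfib _ hb]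
  have hq : f.QuasiFiniteAt η := by
    rw [Scheme.Hom.quasiFiniteAt_iff_isOpen_singleton_asFiber,
      show ({f.asFiber η} : Set (f.fiber (f η))) = Set.univ from
        Set.eq_univ_of_forall fun w => Subsingleton.elim _ _]
    exact isOpen_univ
  haveI : IsIntegrallyClosed (Y.presheaf.stalk (f η)) := by
    letI := hYf.toField
    infer_instance
  obtain ⟨U, hU, hiso⟩ := Groth.Agent.H26.BirationalZMT.exists_isIso_morphismRestrict f hgen hiso η
    inferInstance hq
  exact ⟨U, ⟨_, hU⟩, hiso⟩

/-- The closed immersion into projective space over the base of a morphism over a field. -/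
theorem exists_closedImmersion {k : Type u} [CommRing k] {a : ℕ} {X Y : Scheme.{u}}
    (iX : X ⟶ CohB1.ProjSpace a k) [IsClosedImmersion iX] (gY : Y ⟶ Spec (CommRingCat.of k))
    (f : X ⟶ Y) [IsProper f] (hk : f ≫ gY = iX ≫ CohB1.ProjSpace.toSpec a k) :
    ∃ i : X ⟶ CohB1.ProjSpaceOver a Y, IsClosedImmersion i ∧
      i ≫ CohB1.ProjSpaceOver.toBase a Y = f := by
  let φ : ULift.{u} ℤ →+* k := (Int.castRingHom k).comp ULift.ringEquiv.toRingHom
  have hpb := ProjSpace.BaseChange.isPullback_projMap a φ
  let i : X ⟶ CohB1.ProjSpaceOver a Y :=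
    pullback.lift (iX ≫ ProjSpace.BaseChange.projMap a φ) f (specULiftZIsTerminal.hom_ext _ _)
  have hi : i ≫ CohB1.ProjSpaceOver.toBase a Y = f := pullback.lift_snd _ _ _
  have hmono : Mono i := ⟨fun {T} h₁ h₂ hh => by
    have h1 : h₁ ≫ iX ≫ ProjSpace.BaseChange.projMap a φ =
        h₂ ≫ iX ≫ ProjSpace.BaseChange.projMap a φ := by
      have hl : i ≫ pullback.fst _ _ = iX ≫ ProjSpace.BaseChange.projMap a φ := pullback.lift_fst _ _ _
      exact (congrArg (h₁ ≫ ·) hl).symm.trans (((Category.assoc _ _ _).symm.trans
        ((congrArg (· ≫ pullback.fst _ _) hh).trans (Category.assoc _ _ _))).trans (congrArg (h₂ ≫ ·) hl))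
    have h2 : h₁ ≫ f = h₂ ≫ f := by rw [← hi, reassoc_of% hh]
    have h3 : h₁ ≫ iX ≫ CohB1.ProjSpace.toSpec a k = h₂ ≫ iX ≫ CohB1.ProjSpace.toSpec a k := by
      rw [← hk, reassoc_of% h2]
    exact (cancel_mono iX).1 (hpb.hom_ext (by simpa only [Category.assoc] using h1)
      (by simpa only [Category.assoc] using h3))⟩
  haveI := ProjSpace.BaseChange.isProper_toBase a Y
  haveI : IsProper (i ≫ CohB1.ProjSpaceOver.toBase a Y) := by rw [hi]; infer_instance
  haveI : IsProper i := IsProper.of_comp i (CohB1.ProjSpaceOver.toBase a Y)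
  exact ⟨i, (IsClosedImmersion.iff_isProper_and_mono i).2 ⟨inferInstance, hmono⟩, hi⟩

theorem isBlowUp_of_birational {k : Type u} [Field k] {a b : ℕ}
    (iX : X ⟶ CohB1.ProjSpace a k) [IsClosedImmersion iX]
    (iY : Y ⟶ CohB1.ProjSpace b k) [IsClosedImmersion iY] (f : X ⟶ Y)
    (hk : f ≫ iY ≫ CohB1.ProjSpace.toSpec b k = iX ≫ CohB1.ProjSpace.toSpec a k)
    (hgen : f (genericPoint X) = genericPoint Y)
    (hbir : Function.Bijective (f.residueFieldMap (genericPoint X)).hom) :
    ∃ I : Y.IdealSheafData, BlowUp.IsBlowUp f I := by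
  haveI := ProjSpace.Basic.isProper_toSpec a k
  haveI := ProjSpace.Basic.isProper_toSpec b k
  let gY := iY ≫ CohB1.ProjSpace.toSpec b k
  haveI : IsProper gY := inferInstanceAs (IsProper (_ ≫ _))
  haveI : IsProper (f ≫ gY) := by rw [hk]; infer_instance
  haveI : IsProper f := IsProper.of_comp f gY
  haveI : CompactSpace Y := QuasiCompact.compactSpace_of_compactSpace gY
  haveI : IsLocallyNoetherian Y := LocallyOfFiniteType.isLocallyNoetherian gY
  haveI : IsNoetherian Y := {}
  obtain ⟨i, hi, hif⟩ := exists_closedImmersion iX gY f hk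
  haveI := hi
  exact isBlowUp_of_projective_birational (Ample.Pullback.isAmple_pullback iY
    (Ample.Pullback.isQuasiAffine_of_isAffineHom _) (HProj.QuasiProj.isAmple_twist_projSpace b k))
    f i hif (exists_isIso_open f hgen hbir)

end Groth.Agent.H22.Birational12426
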