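import Groth.Agent.H22.Birational12426.Main
import Groth.Agent.Lib.ProjMor.Embed
import Groth.Agent.H22.BlowUpComp.Cover

/-!
# A projective birational morphism is a blow-up: conclusion
-/

set_option autoImplicit false
set_option maxHeartbeats 1000000

noncomputable section

universe u

open CategoryTheory CategoryTheory.Limits AlgebraicGeometry TopologicalSpace Opposite

namespace Groth.Agent.H22.Birational12426

open Groth.Agent.Lib TensorMod TensorMod.Gen TensorMod.Dual TensorMod.Pullback Ample.GenLocus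
  ProjMor ProjMor.Sec ProjMor.Frame BlowUpExists StrictTransform

variable {N : ℕ}

/-- The base ring of `P^N_Z`. -/
abbrev Z : Type u := ULift.{u} ℤ

/-- A coordinate. -/
abbrev el (i : Fin (N + 1)) : CohB1.polyGrading N Z.{u} 1 :=
  ⟨MvPolynomial.X i, MvPolynomial.isHomogeneous_X Z.{u} i⟩

/-- Two morphisms into a standard chart of projective space agree if the coordinate ratios do. -/
theorem eq_of_ratios {T : Scheme.{u}} (r r' : T ⟶ CohB1.ProjSpace N Z.{u}) (i : Fin (N + 1))
    (U : T.Opens) (h : U ≤ r ⁻¹ᵁ Proj.basicOpen (CohB1.polyGrading N Z.{u}) (el i).1)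
    (h' : U ≤ r' ⁻¹ᵁ Proj.basicOpen (CohB1.polyGrading N Z.{u}) (el i).1)
    (he : ∀ k, r.appLE _ U h (fr _ (el i) (el k)) = r'.appLE _ U h' (fr _ (el i) (el k))) :
    U.ι ≫ r = U.ι ≫ r' := by
  have key : Char.alongHom r (el i).1 U h = Char.alongHom r' (el i).1 U h' := by
    refine RingHom.ext fun z => ?_
    obtain ⟨p, rfl⟩ := Groth.Agent.Lib.ProjSpace.Charts.fromPoly_surjective i z
    refine DFunLike.congr_fun (MvPolynomial.ringHom_ext (f := (Char.alongHom r (el i).1 U h).comp
      (Groth.Agent.Lib.ProjSpace.Charts.fromPoly Z.{u} i)) (g := (Char.alongHom r' (el i).1 U h').comp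
      (Groth.Agent.Lib.ProjSpace.Charts.fromPoly Z.{u} i)) (fun a => ?_) fun k => ?_) p
    · have : ((Char.alongHom r (el i).1 U h).comp (Groth.Agent.Lib.ProjSpace.Charts.fromPoly Z.{u} i)).comp
          (MvPolynomial.C.comp ULift.ringEquiv.symm.toRingHom) =
          ((Char.alongHom r' (el i).1 U h').comp (Groth.Agent.Lib.ProjSpace.Charts.fromPoly Z.{u} i)).comp
          (MvPolynomial.C.comp ULift.ringEquiv.symm.toRingHom) := RingHom.ext_int _ _
      exact DFunLike.congr_fun this a.down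
    · simp only [RingHom.comp_apply, Groth.Agent.Lib.ProjSpace.Charts.fromPoly_X]
      have hc : Groth.Agent.Lib.ProjSpace.Charts.coord Z.{u} i k.1 =
          HomogeneousLocalization.Away.mk (CohB1.polyGrading N Z.{u}) (el i).2 1 (el k.1).1
            (by simpa using (el k.1).2) := by
        refine HomogeneousLocalization.val_injective _ ?_
        erw [HomogeneousLocalization.Away.val_mk]
        rw [Groth.Agent.Lib.ProjSpace.Charts.val_coord]
        congr 1
        exact Subtype.ext (pow_one _).symm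
      rw [hc]
      exact he k.1
  exact (Char.ι_comp_eq r (el i).2 U h).trans ((congrArg (fun φ =>
    Chow.PointMap.toSpecHom (U.topIso.inv.hom.comp φ) ≫
      Proj.awayι (CohB1.polyGrading N Z.{u}) (el i).1 (el i).2 one_pos) key).trans
        (Char.ι_comp_eq r' (el i).2 U h').symm)

variable {X X' : Scheme.{u}} [IsIntegral X] [IsIntegral X']

set_option maxHeartbeats 4000000 in
theorem isBlowUp_of_projective_birational [IsNoetherian X] {M : X.Modules} (hM : CohB1.IsAmple M)
    (f : X' ⟶ X) (i : X' ⟶ CohB1.ProjSpaceOver N X) [IsClosedImmersion i]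
    (hi : i ≫ CohB1.ProjSpaceOver.toBase N X = f)
    (hbir : ∃ U : X.Opens, (U : Set X).Nonempty ∧ IsIso (f ∣_ U)) :
    ∃ I : X.IdealSheafData, BlowUp.IsBlowUp f I := by
  let p : CohB1.ProjSpaceOver N X ⟶ CohB1.ProjSpace N Z.{u} := pullback.fst _ _
  let r : X' ⟶ CohB1.ProjSpace N Z.{u} := i ≫ p
  let 𝒜 := CohB1.polyGrading N Z.{u}
  have hcv := ProjMor.Main.cover (Poly.lin_mem N Z.{u}) (Poly.adjoin_lin N Z.{u})
  have hinv : PicF.IsInvertible (Twist.twist 𝒜 1) :=
    Groth.Agent.Lib.ProjTilde.Invertible.twist_isInvertible_of_cover (fun x => by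
      obtain ⟨c, hc⟩ := hcv x
      exact ⟨c, c.2, hc⟩) 1
  let L : X'.Modules := (pb r).obj (Twist.twist 𝒜 1)
  let x : Fin (N + 1) → Γ(L, ⊤) := fun j => ProjUP.pullSec r (Twist.twist 𝒜 1) (g 𝒜 (el j))
  have hloc : ∀ j, locus (x j) = r ⁻¹ᵁ Proj.basicOpen 𝒜 (el j).1 := fun j => by
    show locus (ProjUP.pullSec r (Twist.twist 𝒜 1) (g 𝒜 (el j))) = _
    exact (locus_pullback hinv r _).trans (congrArg (r ⁻¹ᵁ ·) (locus_g hcv (el j)))
  have hcov : ∀ z, ∃ j, z ∈ locus (x j) := fun z => by
    have h := (SetLike.ext_iff.1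
      (ProjSpace.Basic.iSup_basicOpen_X_eq_top (n := N) (R := Z.{u})) (r z)).2 trivial
    obtain ⟨j, hj⟩ := Opens.mem_iSup.1 h
    exact ⟨j, (hloc j).symm ▸ hj⟩
  haveI : IsProper (CohB1.ProjSpace.toSpec N Z.{u}) := ProjSpace.Basic.isProper_toSpec N Z.{u}
  haveI : IsProper (CohB1.ProjSpaceOver.toBase N X) :=
    inferInstanceAs (IsProper (pullback.snd _ _))
  haveI : IsProper f := by rw [← hi]; infer_instance
  obtain ⟨A, hA, O, hO, g₀, hg₀, e', he', a, c, hiso, ha, hx⟩ :=
    exists_clearing hM f hbir (PicLoc.isInvertible_pullback r hinv) x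
  let d : Cl f (Fin (N + 1)) := ⟨L, A, hA, x, O, hO, g₀, hg₀, e', he', a, c, hiso, ha, hx⟩
  let I := ideal d
  have hC := isEffCartier d hcov
  have hFG : ∀ U, (I.ideal U).FG := fun U =>
    haveI := IsLocallyNoetherian.component_noetherian U
    IsNoetherian.noetherian _
  let B := bl I
  let π : B ⟶ X := blProj I
  have hπ : BlowUp.IsBlowUp π I := BlowUpAmple.isBlowUp_blProj I
  obtain ⟨k, hk, -⟩ := hπ.2 X' f hC
  haveI : IsProper π := isProper_blProj hFG
  haveI : IsProper (k ≫ π) := by rw [hk]; infer_instance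
  haveI : IsProper k := IsProper.of_comp k π
  obtain ⟨x₁, hx₁⟩ := exists_notMem_support d hcov
  haveI : IsIntegral B := AffineCompl11382.isIntegral_of_isBlowUp hπ hFG hx₁
  have hmono : Mono k := ⟨fun {T} h₁ h₂ hh => by
    have hf : h₁ ≫ f = h₂ ≫ f := by rw [← hk, reassoc_of% hh]
    haveI : Mono i := inferInstance
    suffices hr : h₁ ≫ r = h₂ ≫ r from (cancel_mono i).1 (pullback.hom_ext
      ((Category.assoc _ _ _).trans (hr.trans (Category.assoc _ _ _).symm))
      ((Category.assoc _ _ _).trans ((congrArg (h₁ ≫ ·) hi).trans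
        (hf.trans ((congrArg (h₂ ≫ ·) hi).symm.trans (Category.assoc _ _ _).symm)))))
    -- local equality
    have key : ∀ t : T, ∃ U : T.Opens, t ∈ U ∧ U.ι ≫ h₁ ≫ r = U.ι ≫ h₂ ≫ r := by
      intro t
      obtain ⟨j, hj⟩ := hcov (h₁ t)
      obtain ⟨F, hF, -⟩ := H95.ZeroSch.exists_frame hA (show f (h₁ t) ∈ (⊤ : X.Opens) from trivial)
      obtain ⟨b, hb, hI⟩ := ideal_frame d F
      obtain ⟨T₁, hT₁, ht₁, hle₁⟩ := exists_isAffineOpen_mem_and_subset
        (show h₁ t ∈ locus (x j) ⊓ f ⁻¹ᵁ F.V.1 from ⟨hj, hF⟩)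
      have hg₁ : GenAt I f F.V (b j) (h₁ t) := ⟨⟨T₁, hT₁⟩, fun y hy => (hle₁ hy).2, ht₁,
        genAt_of_locus d F b hb hI j (T := ⟨T₁, hT₁⟩) ht₁ (fun y hy => (hle₁ hy).1) fun y hy => (hle₁ hy).2⟩
      have hbI : b j ∈ I.ideal F.V := hI.symm ▸ Ideal.subset_span ⟨j, rfl⟩
      have hgB : GenAt I π F.V (b j) (k (h₁ t)) :=
        genAt_of_comp (I := I) (a := ⟨b j, hbI⟩) k hπ.1 (by rw [hk]; exact hC) (by rw [hk]; exact hg₁)
      obtain ⟨WB, eB, hkW, hWB⟩ := hgB
      let P : X'.Opens := locus (x j) ⊓ k ⁻¹ᵁ WB.1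
      have hPF : P ≤ f ⁻¹ᵁ F.V.1 := fun y hy => by
        show f y ∈ F.V.1
        rw [← hk]
        exact eB hy.2
      -- a point over the same point of the blow-up lies in the same chart
      have hmem : ∀ y : X', k y ∈ WB.1 → y ∈ locus (x j) := by
        intro y hy
        have hg : GenAt I (k ≫ π) F.V (b j) y := genAt_comp k ⟨WB, eB, hy, hWB⟩
        rw [hk] at hg
        obtain ⟨l, hl⟩ := hcov y
        obtain ⟨W, eW, hyW, hWl, hWI⟩ := hg.exists_le hl
        obtain ⟨q, hq⟩ := exists_coord ((isGen_locus (x l)).res hWl) (gl (x j) W.1)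
        rw [rs_gl] at hq
        have h2 := genAt_of_locus d F b hb hI l (T := W) hyW hWl eW
        have h3 := rel d F b hb l j hyW eW q hq
        obtain ⟨q', hq'⟩ := Ideal.mem_span_singleton'.1
          (show f.appLE F.V.1 W.1 eW (b l) ∈ Ideal.span {f.appLE F.V.1 W.1 eW (b j)} from
            hWI ▸ h2.symm ▸ Ideal.mem_span_singleton_self _)
        have hu : IsUnit q := by
          haveI : Nonempty W.1 := ⟨⟨y, hyW⟩⟩
          refine IsUnit.of_mul_eq_one q' ?_
          refine mul_right_cancel₀ (ne_zero d F b hb l hyW hWl eW) ?_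
          rw [one_mul, mul_comm q q', mul_assoc, ← h3, hq']
        exact le_locus (m := x j) (U := W.1) (by
          rw [hq]
          have := IsGen_smul_isUnit ((isGen_locus (x l)).res hWl) hu
          rwa [rs_gl] at this) hyW
      have hk12 : k (h₁ t) = k (h₂ t) := by
        rw [← Scheme.Hom.comp_apply, hh, Scheme.Hom.comp_apply]
      have hP₁ : h₁ t ∈ P := ⟨hj, hkW⟩
      have hP₂ : h₂ t ∈ P := ⟨hmem _ (hk12 ▸ hkW), show k (h₂ t) ∈ WB.1 from hk12 ▸ hkW⟩
      let U : T.Opens := h₁ ⁻¹ᵁ P ⊓ h₂ ⁻¹ᵁ P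
      have hPr : P ≤ r ⁻¹ᵁ Proj.basicOpen 𝒜 (el j).1 := inf_le_left.trans (hloc j).le
      refine ⟨U, ⟨hP₁, hP₂⟩, eq_of_ratios (h₁ ≫ r) (h₂ ≫ r) j U
        (fun y hy => hPr hy.1) (fun y hy => hPr hy.2) fun l => ?_⟩
      -- the ratio on `P` comes from the blow-up
      obtain ⟨β, hβ⟩ : ∃ β : Γ(B, WB.1),
          π.appLE F.V.1 WB.1 eB (b l) = β * π.appLE F.V.1 WB.1 eB (b j) := by
        have : π.appLE F.V.1 WB.1 eB (b l) ∈ (I.comap π).ideal WB := by
          rw [Lib.Ideal.Comap.ideal_comap π I F.V WB eB]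
          exact Ideal.mem_map_of_mem _ (hI.symm ▸ Ideal.subset_span ⟨l, rfl⟩)
        rw [hWB] at this
        obtain ⟨β, hβ⟩ := Ideal.mem_span_singleton'.1 this
        exact ⟨β, hβ.symm⟩
      have hq := Embed.ratio_of_iso (a := el j) (b := el l) (Iso.refl L)
        (va := x j) (vb := x l) rfl rfl (U := P) hPr
      have h3 := rel d F b hb j l hP₁ hPF _ hq
      have e : ∀ (bb : Γ(X, F.V.1)), k.appLE WB.1 P inf_le_right (π.appLE F.V.1 WB.1 eB bb) =
          f.appLE F.V.1 P hPF bb := fun bb => by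
        rw [← ConcreteCategory.comp_apply, Scheme.Hom.appLE_comp_appLE]
        simp only [hk]
      have hβ' := congrArg (k.appLE WB.1 P inf_le_right) hβ
      rw [map_mul, e, e] at hβ'
      haveI : Nonempty P := ⟨⟨h₁ t, hP₁⟩⟩
      have hkey : r.appLE _ P hPr (fr 𝒜 (el j) (el l)) = k.appLE WB.1 P inf_le_right β :=
        mul_right_cancel₀ (ne_zero d F b hb j hP₁ inf_le_left hPF) (h3.symm.trans hβ')
      have e2 : ∀ (h : T ⟶ X') (hU : U ≤ h ⁻¹ᵁ P)
          (z : Γ(CohB1.ProjSpace N Z.{u}, Proj.basicOpen 𝒜 (el j).1)),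
          (h ≫ r).appLE _ U (fun y hy => hPr (hU hy)) z = h.appLE P U hU (r.appLE _ P hPr z) :=
        fun h hU z => by rw [← ConcreteCategory.comp_apply, Scheme.Hom.appLE_comp_appLE]
      rw [e2 h₁ inf_le_left, e2 h₂ inf_le_right, hkey, ← ConcreteCategory.comp_apply,
        ← ConcreteCategory.comp_apply, Scheme.Hom.appLE_comp_appLE, Scheme.Hom.appLE_comp_appLE]
      simp only [hh]
    choose U hU hUeq using key
    exact Scheme.Cover.hom_ext (T.openCoverOfIsOpenCover U
      (top_le_iff.1 fun t _ => Opens.mem_iSup.2 ⟨t, hU t⟩)) _ _ hUeq⟩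
  haveI : IsClosedImmersion k := (IsClosedImmersion.iff_isProper_and_mono k).2 ⟨inferInstance, hmono⟩
  haveI : Surjective k := by
    constructor
    rw [← Set.range_eq_univ]
    have hη : genericPoint B ∈ Set.range k := by
      haveI := Lib.Ideal.BlowUp.isIso_off_center hπ
      refine ⟨genericPoint X', ?_⟩
      have hfη : f (genericPoint X') = genericPoint X := by
        haveI := d.iso
        obtain ⟨y, hy⟩ := exists_mem_preimage_O d
        have hη' : genericPoint X' ∈ f ⁻¹ᵁ d.O :=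
          ((genericPoint_spec X').specializes trivial).mem_open (f ⁻¹ᵁ d.O).isOpen hy
        have hηX : genericPoint X ∈ d.O :=
          ((genericPoint_spec X).specializes trivial).mem_open d.O.isOpen hη'
        obtain ⟨⟨z, hz⟩, hzη⟩ := (f ∣_ d.O).surjective ⟨_, hηX⟩
        have hfz : f z = genericPoint X := by
          exact (congrArg (fun φ : (f ⁻¹ᵁ d.O).toScheme ⟶ X => φ ⟨z, hz⟩)
            (morphismRestrict_ι f d.O)).symm.trans (congrArg d.O.ι hzη)
        exact ((((genericPoint_spec X').specializes trivial).map f.continuous).antisymm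
          (hfz.symm ▸ (genericPoint_spec X).specializes trivial : _)).eq |>.trans hfz
      have hoff : genericPoint X ∈ off I :=
        ((genericPoint_spec X).specializes trivial).mem_open (off I).isOpen hx₁
      have h1 : π (k (genericPoint X')) = genericPoint X := by
        rw [← Scheme.Hom.comp_apply, hk, hfη]
      refine StrictTransform.injOn_of_isIso (φ := π) (U := off I)
        (x := genericPoint B) (x' := k (genericPoint X')) ?_ ?_
      · exact (((genericPoint_spec B).specializes trivial).map π.continuous).mem_open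
          (off I).isOpen (h1.symm ▸ hoff)
      · rw [h1]
        exact ((((genericPoint_spec B).specializes (y := k (genericPoint X')) trivial).map
          π.continuous).antisymm (by rw [h1]; exact (genericPoint_spec X).specializes trivial)).eq.symm.trans rfl |>.symm ▸ h1.symm
    refine Set.eq_univ_of_univ_subset ?_
    rw [← (genericPoint_spec B).def]
    exact closure_minimal (Set.singleton_subset_iff.2 hη) k.isClosedEmbedding.isClosed_range
  haveI : IsIso k := isIso_of_isClosedImmersion_of_surjective k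
  exact ⟨I, hk ▸ isBlowUp_iso_comp hπ k⟩

end Groth.Agent.H22.Birational12426
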